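import Mathlib
import Groth.Agent.KFlat.Module
import Groth.Agent.S0406

/-!
# Admissible algebras over semi-valuation rings
-/

set_option autoImplicit false
universe u

open TensorProduct

namespace SemiValLib

variable {O : Type u} [CommRing O] (A : Type u) [CommRing A] [Algebra O A] (S : Submonoid O) [IsLocalization S A]
  (R : Type u) [CommRing R] [IsDomain R] [Algebra O R]
  {C : Type u} [CommRing C] [Algebra O C]


include A in
theorem smul_eq_zero_imp (hadm : Function.Injective (TensorProduct.mk O A C 1)) {s : O} (hs : s ∈ S) {c : C}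
    (h : s • c = 0) : c = 0 := by
  refine hadm ?_
  rw [map_zero]
  have h1 : algebraMap O A s • (TensorProduct.mk O A C 1 c) = 0 := by
    rw [algebraMap_smul, ← map_smul, h, map_zero]
  exact ((IsLocalization.map_units A ⟨s, hs⟩).smul_eq_zero).1 h1

include A in
theorem torsion_of_mul_eq_zero [Module.Flat A (A ⊗[O] C)] (J : Ideal O) (u : J ⊗[O] C)
    (hu : (J.subtype.rTensor C) u = 0) : ∃ s ∈ S, s • u = 0 := by
  haveI : Module.Flat O A := IsLocalization.flat A S
  haveI : Module.Flat O (A ⊗[O] C) := Module.Flat.trans O A (A ⊗[O] C)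
  let g : C →ₗ[O] A ⊗[O] C := TensorProduct.mk O A C 1
  haveI : IsLocalizedModule S g := inferInstanceAs (IsLocalizedModule S (TensorProduct.mk O A C 1))
  have h1 : g.lTensor J u = 0 := by
    apply Module.Flat.rTensor_preserves_injective_linearMap (M := A ⊗[O] C) J.subtype J.injective_subtype
    rw [map_zero, ← LinearMap.comp_apply, LinearMap.rTensor_comp_lTensor, ← LinearMap.lTensor_comp_rTensor,
      LinearMap.comp_apply, hu, map_zero]
  let g' := AlgebraTensorModule.rTensor O J g
  haveI : IsLocalizedModule S g' := inferInstance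
  have h2 : g' (TensorProduct.comm O J C u) = 0 := by
    show g.rTensor J (TensorProduct.comm O J C u) = 0
    have : ∀ v : J ⊗[O] C, g.rTensor J (TensorProduct.comm O J C v) = TensorProduct.comm O J (A ⊗[O] C) (g.lTensor J v) := by
      intro v
      induction v with
      | zero => simp
      | tmul a b => simp
      | add a b ha hb => simp only [map_add, ha, hb]
    rw [this, h1, map_zero]
  rw [← map_zero g', IsLocalizedModule.eq_iff_exists S] at h2
  obtain ⟨s, hs⟩ := h2
  refine ⟨s, s.2, (TensorProduct.comm O J C).injective ?_⟩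
  rw [map_smul, map_zero]
  simpa [Submonoid.smul_def] using hs

variable (hO : Function.Injective (algebraMap O A)) (hdiv : ∀ s ∈ S, ∀ μ ∈ (RingHom.ker (algebraMap O R)), ∃ μ' ∈ (RingHom.ker (algebraMap O R)), μ = s * μ')

include A hO hdiv in
theorem injective_max_tensor [Module.Flat A (A ⊗[O] C)] : Function.Injective ((RingHom.ker (algebraMap O R)).subtype.rTensor C) := by
  refine (injective_iff_map_eq_zero _).2 fun u hu => ?_
  obtain ⟨s, hs, hsu⟩ := torsion_of_mul_eq_zero A S _ u hu
  have hsurj : Function.Surjective (LinearMap.lsmul O (↥(RingHom.ker (algebraMap O R))) s) := fun μ => by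
    obtain ⟨μ', hμ', h⟩ := hdiv s hs μ.1 μ.2
    exact ⟨⟨μ', hμ'⟩, Subtype.ext h.symm⟩
  have hinjO : ∀ x : ↥(RingHom.ker (algebraMap O R)), s • x = 0 → x = 0 := fun x hx => by
    refine Subtype.ext (hO ?_)
    rw [ZeroMemClass.coe_zero, map_zero]
    refine (IsLocalization.map_units A ⟨s, hs⟩).mul_right_eq_zero.1 ?_
    rw [← map_mul, show s * (x : O) = 0 from congrArg Subtype.val hx, map_zero]
  let e : ↥(RingHom.ker (algebraMap O R)) ≃ₗ[O] ↥(RingHom.ker (algebraMap O R)) := LinearEquiv.ofBijective (LinearMap.lsmul O (↥(RingHom.ker (algebraMap O R))) s)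
    ⟨(injective_iff_map_eq_zero _).2 hinjO, hsurj⟩
  refine (TensorProduct.congr e (LinearEquiv.refl O C)).injective ?_
  rw [map_zero, ← hsu]
  clear hu hsu
  induction u with
  | zero => simp
  | tmul a b => simp [e, TensorProduct.smul_tmul']
  | add a b ha hb => simp only [map_add, smul_add, ha, hb]

section Pres

variable {n : ℕ} (φ : MvPolynomial (Fin n) O →ₐ[O] C) (hφ : Function.Surjective φ)

/-- The relations, as an `O`-module. -/
noncomputable abbrev kerMod : Submodule O (MvPolynomial (Fin n) O) := LinearMap.ker φ.toLinearMap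

/-- Multiplication `J ⊗ P → P`. -/
noncomputable abbrev mulMap (J : Ideal O) : J ⊗[O] MvPolynomial (Fin n) O →ₗ[O] MvPolynomial (Fin n) O :=
  (TensorProduct.lid O _).toLinearMap ∘ₗ J.subtype.rTensor _

theorem mulMap_injective (J : Ideal O) : Function.Injective (mulMap (n := n) J) :=
  (TensorProduct.lid O _).injective.comp
    (Module.Flat.rTensor_preserves_injective_linearMap (M := MvPolynomial (Fin n) O) J.subtype J.injective_subtype)

theorem phi_mulMap (J : Ideal O) (z : J ⊗[O] MvPolynomial (Fin n) O) :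
    φ (mulMap J z) = TensorProduct.lid O C (J.subtype.rTensor C (φ.toLinearMap.lTensor J z)) := by
  induction z with
  | zero => simp
  | tmul a b => simp [mulMap]
  | add a b ha hb => simp only [map_add, ha, hb]

include A hO hdiv hφ in
theorem exists_max_of_mem [Module.Flat A (A ⊗[O] C)] (x : MvPolynomial (Fin n) O) (hx : φ x = 0)
    (hsurj : Function.Surjective (algebraMap O R))
    (h : (1 : R) ⊗ₜ[O] x = 0) :
    ∃ w : ↥(RingHom.ker (algebraMap O R)) ⊗[O] kerMod φ, mulMap (RingHom.ker (algebraMap O R)) ((kerMod φ).subtype.lTensor _ w) = x := by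
  have hex : Function.Exact (RingHom.ker (algebraMap O R)).subtype (Algebra.linearMap O R) := fun r =>
    ⟨fun hr => ⟨⟨r, hr⟩, rfl⟩, fun ⟨y, hy⟩ => hy ▸ y.2⟩
  have h' : (Algebra.linearMap O R).rTensor (MvPolynomial (Fin n) O) ((1 : O) ⊗ₜ x) = 0 := by
    simpa using h
  obtain ⟨z, hz⟩ := ((rTensor_exact (MvPolynomial (Fin n) O) hex hsurj) _).1 h'
  have hμ : mulMap (RingHom.ker (algebraMap O R)) z = x := by
    show TensorProduct.lid O _ ((RingHom.ker (algebraMap O R)).subtype.rTensor _ z) = x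
    rw [hz, TensorProduct.lid_tmul, one_smul]
  have hker : φ.toLinearMap.lTensor ↥(RingHom.ker (algebraMap O R)) z = 0 := by
    apply injective_max_tensor A S R hO hdiv
    rw [map_zero]
    apply (TensorProduct.lid O C).injective
    rw [map_zero, ← phi_mulMap, hμ, hx]
  obtain ⟨w, hw⟩ := ((lTensor_exact (↥(RingHom.ker (algebraMap O R))) (LinearMap.exact_subtype_ker_map φ.toLinearMap) hφ) z).1 hker
  exact ⟨w, by rw [hw, hμ]⟩

include A hO hdiv hφ in
theorem lTensor_residue_injective [Module.Flat A (A ⊗[O] C)] (hsurj : Function.Surjective (algebraMap O R)) :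
    Function.Injective ((kerMod φ).subtype.lTensor R) := by
  refine (injective_iff_map_eq_zero _).2 fun z hz => ?_
  obtain ⟨i, rfl⟩ : ∃ i : kerMod φ, (1 : R) ⊗ₜ[O] i = z := by
    clear hz
    induction z with
    | zero => exact ⟨0, by simp⟩
    | tmul r i =>
      obtain ⟨o, rfl⟩ := hsurj r
      exact ⟨o • i, by rw [← TensorProduct.smul_tmul, Algebra.smul_def, mul_one]⟩
    | add a b ha hb =>
      obtain ⟨i, rfl⟩ := ha
      obtain ⟨j, rfl⟩ := hb
      exact ⟨i + j, TensorProduct.tmul_add _ _ _⟩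
  have hi : φ (i : MvPolynomial (Fin n) O) = 0 := i.2
  obtain ⟨w, hw⟩ := exists_max_of_mem A S R hO hdiv φ hφ i.1 hi hsurj (by simpa using hz)
  have key : ∀ w : ↥(RingHom.ker (algebraMap O R)) ⊗[O] kerMod φ, ∃ j : kerMod φ,
      (j : MvPolynomial (Fin n) O) = mulMap (RingHom.ker (algebraMap O R)) ((kerMod φ).subtype.lTensor _ w) ∧ (1 : R) ⊗ₜ[O] j = 0 := by
    intro w
    induction w with
    | zero => exact ⟨0, by simp⟩
    | tmul μ j =>
      exact ⟨(μ : O) • j, by simp [mulMap], by
        rw [← TensorProduct.smul_tmul, Algebra.smul_def, mul_one, show algebraMap O R (μ : O) = 0 from μ.2,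
          TensorProduct.zero_tmul]⟩
    | add a b ha hb =>
      obtain ⟨j, hj, hj'⟩ := ha
      obtain ⟨l, hl, hl'⟩ := hb
      exact ⟨j + l, by rw [Submodule.coe_add, hj, hl]; simp only [map_add],
        by rw [TensorProduct.tmul_add, hj', hl', add_zero]⟩
  obtain ⟨j, hj, hj'⟩ := key w
  rw [show i = j from Subtype.ext (by rw [hj, hw])]
  exact hj'

end Pres

variable (hS : ∀ t : O, algebraMap O R t ≠ 0 → t ∈ S) (hS0 : ∀ s ∈ S, algebraMap O R s ≠ 0)
  (hsurj : Function.Surjective (algebraMap O R)) [ValuationRing R]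
  (hadm : Function.Injective (TensorProduct.mk O A C 1))

include A hO hdiv hS hsurj hadm in
theorem flat_residue [Module.Flat A (A ⊗[O] C)] : Module.Flat R (R ⊗[O] C) := by
  rw [Module.Flat.flat_iff_torsion_eq_bot_of_isBezout, eq_bot_iff]
  rintro z ⟨⟨r, hr⟩, hz⟩
  have hr0 : r ≠ 0 := nonZeroDivisors.ne_zero hr
  obtain ⟨t, rfl⟩ := hsurj r
  have ht := hS t hr0
  have hex : Function.Exact (RingHom.ker (algebraMap O R)).subtype (Algebra.linearMap O R) := fun r =>
    ⟨fun hr => ⟨⟨r, hr⟩, rfl⟩, fun ⟨y, hy⟩ => hy ▸ y.2⟩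
  obtain ⟨y, rfl⟩ := LinearMap.rTensor_surjective C (g := Algebra.linearMap O R) hsurj z
  have hz' : (Algebra.linearMap O R).rTensor C (t • y) = 0 := by
    rw [map_smul, ← algebraMap_smul R t]
    exact hz
  obtain ⟨u, hu⟩ := ((rTensor_exact C hex hsurj) _).1 hz'
  obtain ⟨u', hu'⟩ : ∃ u' : ↥(RingHom.ker (algebraMap O R)) ⊗[O] C, t • u' = u := by
    clear hu
    induction u with
    | zero => exact ⟨0, smul_zero _⟩
    | tmul μ c =>
      obtain ⟨μ', hμ', h⟩ := hdiv t ht μ.1 μ.2
      exact ⟨(⟨μ', hμ'⟩ : ↥(RingHom.ker (algebraMap O R))) ⊗ₜ c, by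
        rw [TensorProduct.smul_tmul']
        exact congrArg (· ⊗ₜ[O] c) (Subtype.ext h.symm)⟩
    | add a b ha hb =>
      obtain ⟨a', ha'⟩ := ha
      obtain ⟨b', hb'⟩ := hb
      exact ⟨a' + b', by rw [smul_add, ha', hb']⟩
  have h0 : t • TensorProduct.lid O C (y - (RingHom.ker (algebraMap O R)).subtype.rTensor C u') = 0 := by
    rw [← map_smul, smul_sub, ← map_smul _ t u', hu', hu, sub_self, map_zero]
  have h1 := (TensorProduct.lid O C).injective ((smul_eq_zero_imp A S hadm ht h0).trans (map_zero _).symm)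
  rw [Submodule.mem_bot, sub_eq_zero.1 h1]
  exact (rTensor_exact C hex hsurj).apply_apply_eq_zero u'

include A hO hdiv hS hS0 hsurj hadm in
theorem flat [Module.Flat A (A ⊗[O] C)] {n : ℕ} (φ : MvPolynomial (Fin n) O →ₐ[O] C)
    (hφ : Function.Surjective φ) : Module.Flat O C := by
  classical
  haveI := flat_residue A S R hO hdiv hS hsurj hadm
  have hexφ : Function.Exact (kerMod φ).subtype φ.toLinearMap := LinearMap.exact_subtype_ker_map φ.toLinearMap
  rw [Module.Flat.iff_rTensor_injective']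
  intro J
  refine (injective_iff_map_eq_zero _).2 fun u hu => ?_
  obtain ⟨s, hs, hsu⟩ := torsion_of_mul_eq_zero A S J u hu
  obtain ⟨z, rfl⟩ := LinearMap.lTensor_surjective J (g := φ.toLinearMap) hφ u
  rw [← map_smul] at hsu
  obtain ⟨w, hw⟩ := ((lTensor_exact J hexφ hφ) _).1 hsu
  -- the quotient `J / sJ`
  let μs : ↥J →ₗ[O] ↥J := LinearMap.lsmul O (↥J) s
  let N := ↥J ⧸ LinearMap.range μs
  have hkillN : ∀ μ ∈ (RingHom.ker (algebraMap O R)), ∀ x : N, μ • x = 0 := by
    intro μ hμ x
    obtain ⟨x, rfl⟩ := Submodule.Quotient.mk_surjective _ x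
    obtain ⟨μ', -, rfl⟩ := hdiv s hs μ hμ
    rw [← Submodule.Quotient.mk_smul, Submodule.Quotient.mk_eq_zero]
    exact ⟨μ' • x, by simp [μs, smul_smul, mul_comm]⟩
  choose sec hsec using hsurj
  have hsame : ∀ a b : O, algebraMap O R a = algebraMap O R b → ∀ x : N, a • x = b • x := fun a b hab x => by
    rw [← sub_eq_zero, ← sub_smul]
    exact hkillN _ (by rw [RingHom.mem_ker, map_sub, hab, sub_self]) x
  letI : Module R N :=
    { smul := fun r x => sec r • x
      one_smul := fun x => (hsame _ 1 (by rw [hsec, map_one]) x).trans (one_smul _ x)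
      mul_smul := fun a b x => (hsame _ (sec a * sec b) (by rw [hsec, map_mul, hsec, hsec]) x).trans (mul_smul _ _ x)
      smul_zero := fun a => smul_zero (sec a)
      smul_add := fun a x y => smul_add (sec a) x y
      add_smul := fun a b x => (hsame _ (sec a + sec b) (by rw [hsec, map_add, hsec, hsec]) x).trans (add_smul _ _ x)
      zero_smul := fun x => (hsame _ 0 (by rw [hsec, map_zero]) x).trans (zero_smul _ x) }
  haveI : IsScalarTower O R N := IsScalarTower.of_algebraMap_smul fun o x => hsame _ o (hsec _) x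
  have hNinj : Function.Injective ((kerMod φ).subtype.lTensor N) := by
    let f := (kerMod φ).subtype.baseChange R
    let g := φ.toLinearMap.baseChange R
    have hf : Function.Injective f :=
      lTensor_residue_injective A S R hO hdiv φ hφ (fun r => ⟨sec r, hsec r⟩)
    have hfg : Function.Exact f g := lTensor_exact R hexφ hφ
    have hg : Function.Surjective g := LinearMap.lTensor_surjective R hφ
    have h := Groth.Agent.KFlat.lTensor_injective_of_flat_cokernel f g hf hfg hg N
    let e₁ := AlgebraTensorModule.cancelBaseChange O R R N (kerMod φ)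
    let e₂ := AlgebraTensorModule.cancelBaseChange O R R N (MvPolynomial (Fin n) O)
    have hc : ∀ x, (kerMod φ).subtype.lTensor N x = e₂ (f.lTensor N (e₁.symm x)) := fun x => by
      induction x with
      | zero => simp
      | tmul a b => simp [e₁, e₂, f]
      | add a b ha hb => simp only [map_add, ha, hb]
    intro a b hab
    rw [hc, hc] at hab
    exact e₁.symm.injective (h (e₂.injective hab))
  have hw0 : (LinearMap.range μs).mkQ.rTensor (kerMod φ) w = 0 := by
    apply hNinj
    rw [map_zero, ← LinearMap.comp_apply, LinearMap.lTensor_comp_rTensor, ← LinearMap.rTensor_comp_lTensor,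
      LinearMap.comp_apply, hw, map_smul]
    clear hw hsu hu
    induction z with
    | zero => simp
    | tmul a b =>
      rw [LinearMap.rTensor_tmul, TensorProduct.smul_tmul', Submodule.mkQ_apply, ← Submodule.Quotient.mk_smul,
        (Submodule.Quotient.mk_eq_zero (LinearMap.range μs) (x := s • a)).2 ⟨a, rfl⟩, TensorProduct.zero_tmul]
    | add a b ha hb => rw [map_add, smul_add, ha, hb, add_zero]
  obtain ⟨w', hw'⟩ := ((rTensor_exact (kerMod φ) (LinearMap.exact_map_mkQ_range μs) (Submodule.mkQ_surjective _)) w).1 hw0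
  have hw'' : s • w' = w := by
    rw [← hw']
    clear hw'
    induction w' with
    | zero => simp
    | tmul a b => rfl
    | add a b ha hb => rw [smul_add, map_add, ha, hb]
  have hfree : z = (kerMod φ).subtype.lTensor J w' := by
    apply mulMap_injective J
    refine sub_eq_zero.1 (MvPolynomial.ext _ _ fun m => hO ?_)
    rw [MvPolynomial.coeff_zero, map_zero]
    refine (IsLocalization.map_units A ⟨s, hs⟩).mul_right_eq_zero.1 ?_
    rw [← map_mul, ← smul_eq_mul, ← MvPolynomial.coeff_smul, smul_sub, ← map_smul, ← map_smul, ← map_smul, hw'', hw,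
      sub_self, MvPolynomial.coeff_zero, map_zero]
  rw [hfree]
  exact ((lTensor_exact J hexφ hφ) _).2 ⟨w', rfl⟩

section FG

include A hO hdiv hsurj hadm in
theorem ker_fg [Module.Flat A (A ⊗[O] C)] {n : ℕ} (φ : MvPolynomial (Fin n) O →ₐ[O] C)
    (hφ : Function.Surjective φ) [Algebra.FinitePresentation A (A ⊗[O] C)]
    [Algebra.FinitePresentation R (R ⊗[O] C)] : (RingHom.ker φ.toRingHom).FG := by
  classical
  let I := RingHom.ker φ.toRingHom
  -- generic part
  let ΦA := Algebra.TensorProduct.map (AlgHom.id A A) φ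
  have hΦA : Function.Surjective ΦA := by
    intro y
    obtain ⟨x, rfl⟩ := LinearMap.lTensor_surjective A (g := φ.toLinearMap) hφ y
    exact ⟨x, rfl⟩
  obtain ⟨GA, hGA⟩ := Algebra.FinitePresentation.ker_fG_of_surjective ΦA hΦA
  have hclear : ∀ z : A ⊗[O] MvPolynomial (Fin n) O, ∃ s ∈ S, ∃ x, s • z = (1 : A) ⊗ₜ x := by
    intro z
    obtain ⟨⟨x, s⟩, hx⟩ := IsLocalizedModule.surj S (TensorProduct.mk O A (MvPolynomial (Fin n) O) 1) z
    exact ⟨s.1, s.2, x, hx⟩
  choose sA hsA xA hxA using hclear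
  have hxI : ∀ z ∈ GA, xA z ∈ I := fun z hz => by
    refine (RingHom.mem_ker).2 (hadm ?_)
    rw [map_zero]
    have h0 : ΦA z = 0 := (RingHom.mem_ker).1 (hGA ▸ Ideal.subset_span hz)
    have h1 : ΦA (sA z • z) = 0 := by
      rw [AlgHom.map_smul_of_tower, h0, smul_zero]
    rw [hxA] at h1
    simpa [ΦA] using h1
  let I0 : Ideal (MvPolynomial (Fin n) O) := Ideal.span ((GA.image xA : Finset _) : Set _)
  have hI0 : I0 ≤ I := Ideal.span_le.2 fun x hx => by
    obtain ⟨z, hz, rfl⟩ := Finset.mem_image.1 hx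
    exact hxI z hz
  have hI0S : ∀ i ∈ I, ∃ s ∈ S, s • i ∈ I0 := by
    intro i hi
    have h1 : (1 : A) ⊗ₜ[O] i ∈ Ideal.span (GA : Set (A ⊗[O] MvPolynomial (Fin n) O)) := by
      have hmem : (1 : A) ⊗ₜ[O] i ∈ RingHom.ker ΦA.toRingHom := by
        rw [RingHom.mem_ker]
        show (1 : A) ⊗ₜ[O] (φ i) = 0
        rw [show φ i = 0 from hi, TensorProduct.tmul_zero]
      rw [← hGA] at hmem
      exact hmem
    have key : ∀ z ∈ Ideal.span (GA : Set (A ⊗[O] MvPolynomial (Fin n) O)),
        ∃ s ∈ S, ∃ y ∈ I0, s • z = (1 : A) ⊗ₜ y := by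
      intro z hz
      induction hz using Submodule.span_induction with
      | mem z hz => exact ⟨sA z, hsA z, xA z, Ideal.subset_span (Finset.mem_image_of_mem _ hz), hxA z⟩
      | zero => exact ⟨1, one_mem _, 0, zero_mem _, by simp⟩
      | add a b _ _ ha hb =>
        obtain ⟨s, hs, y, hy, hay⟩ := ha
        obtain ⟨t, ht, y', hy', hby⟩ := hb
        refine ⟨s * t, mul_mem hs ht, t • y + s • y', add_mem (Submodule.smul_of_tower_mem _ t hy)
          (Submodule.smul_of_tower_mem _ s hy'), ?_⟩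
        rw [TensorProduct.tmul_add, TensorProduct.tmul_smul, TensorProduct.tmul_smul, ← hay, ← hby, smul_add,
          smul_smul, smul_smul, mul_comm t s]
      | smul q a _ ha =>
        obtain ⟨s, hs, y, hy, hay⟩ := ha
        refine ⟨sA q * s, mul_mem (hsA q) hs, xA q * y, Ideal.mul_mem_left _ _ hy, ?_⟩
        rw [smul_eq_mul, ← smul_mul_smul_comm, hxA q, hay, Algebra.TensorProduct.tmul_mul_tmul, one_mul]
    obtain ⟨s, hs, y, hy, hsy⟩ := key _ h1
    refine ⟨s, hs, ?_⟩
    have hinj : Function.Injective (TensorProduct.mk O A (MvPolynomial (Fin n) O) 1) := fun a b hab => by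
      obtain ⟨t, ht⟩ := (IsLocalizedModule.eq_iff_exists S (TensorProduct.mk O A (MvPolynomial (Fin n) O) 1)).1 hab
      refine MvPolynomial.ext _ _ fun m => hO ?_
      have := congrArg (fun p => algebraMap O A (MvPolynomial.coeff m p)) ht
      simp only [Submonoid.smul_def, MvPolynomial.coeff_smul, smul_eq_mul, map_mul] at this
      exact (IsLocalization.map_units A t).mul_left_cancel this
    have : s • i = y := hinj (by rw [map_smul]; exact hsy)
    rw [this]; exact hy
  -- special part
  let ΦR := Algebra.TensorProduct.map (AlgHom.id R R) φ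
  have hΦR : Function.Surjective ΦR := by
    intro y
    obtain ⟨x, rfl⟩ := LinearMap.lTensor_surjective R (g := φ.toLinearMap) hφ y
    exact ⟨x, rfl⟩
  obtain ⟨GR, hGR⟩ := Algebra.FinitePresentation.ker_fG_of_surjective ΦR hΦR
  let q : MvPolynomial (Fin n) O →+* R ⊗[O] MvPolynomial (Fin n) O :=
    (Algebra.TensorProduct.includeRight : MvPolynomial (Fin n) O →ₐ[O] R ⊗[O] MvPolynomial (Fin n) O).toRingHom
  have hq : Function.Surjective q := by
    intro z
    induction z with
    | zero => exact ⟨0, map_zero _⟩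
    | tmul r p =>
      obtain ⟨o, rfl⟩ := hsurj r
      exact ⟨o • p, by
        show (1 : R) ⊗ₜ[O] (o • p) = _
        rw [← TensorProduct.smul_tmul, Algebra.smul_def, mul_one]⟩
    | add a b ha hb =>
      obtain ⟨x, rfl⟩ := ha
      obtain ⟨y, rfl⟩ := hb
      exact ⟨x + y, map_add _ _ _⟩
  have hlift : ∀ z ∈ GR, ∃ y ∈ I, q y = z := by
    intro z hz
    have h0 : φ.toLinearMap.lTensor R z = 0 := by
      have h1 : ΦR z = 0 := (RingHom.mem_ker).1 (hGR ▸ Ideal.subset_span hz)
      exact h1
    obtain ⟨w, hw⟩ := ((lTensor_exact R (LinearMap.exact_subtype_ker_map φ.toLinearMap) hφ) z).1 h0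
    rw [← hw]
    clear hw h0 hz
    induction w with
    | zero => exact ⟨0, zero_mem _, by simp [q]⟩
    | tmul r i =>
      obtain ⟨o, rfl⟩ := hsurj r
      refine ⟨o • (i : MvPolynomial (Fin n) O), Submodule.smul_of_tower_mem _ o i.2, ?_⟩
      show (1 : R) ⊗ₜ[O] _ = _
      rw [← TensorProduct.smul_tmul, Algebra.smul_def, mul_one]
      rfl
    | add a b ha hb =>
      obtain ⟨x, hx, hx'⟩ := ha
      obtain ⟨y, hy, hy'⟩ := hb
      exact ⟨x + y, add_mem hx hy, by rw [map_add, map_add, hx', hy']⟩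
  choose yR hyI hyq using hlift
  let I1 : Ideal (MvPolynomial (Fin n) O) := Ideal.span ((GR.attach.image fun z => yR z.1 z.2 : Finset _) : Set _)
  have hI1 : I1 ≤ I := Ideal.span_le.2 fun x hx => by
    obtain ⟨z, _, rfl⟩ := Finset.mem_image.1 hx
    exact hyI z.1 z.2
  suffices hIeq : I ≤ I0 ⊔ I1 by
    rw [show RingHom.ker φ.toRingHom = I0 ⊔ I1 from le_antisymm hIeq (sup_le hI0 hI1)]
    exact Submodule.FG.sup ⟨_, rfl⟩ ⟨_, rfl⟩
  intro i hi
  have h1 : q i ∈ I1.map q := by
    have hmem : q i ∈ RingHom.ker ΦR.toRingHom := by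
      rw [RingHom.mem_ker]
      show (1 : R) ⊗ₜ[O] (φ i) = 0
      rw [show φ i = 0 from hi, TensorProduct.tmul_zero]
    rw [← hGR] at hmem
    refine (Ideal.span_le.2 fun z hz => ?_ : Ideal.span (GR : Set _) ≤ I1.map q) hmem
    rw [← hyq z hz]
    exact Ideal.mem_map_of_mem q (Ideal.subset_span (Finset.mem_image.2 ⟨⟨z, hz⟩, Finset.mem_attach _ _, rfl⟩))
  obtain ⟨y, hy, hyi⟩ := (Ideal.mem_map_iff_of_surjective q hq).1 h1
  have hiy : φ (i - y) = 0 := by
    rw [map_sub, show φ i = 0 from hi, show φ y = 0 from hI1 hy, sub_zero]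
  obtain ⟨w, hw⟩ := exists_max_of_mem A S R hO hdiv φ hφ (i - y) hiy hsurj (by
    show q (i - y) = 0
    rw [map_sub, hyi, sub_self])
  have hkey : ∀ w : ↥(RingHom.ker (algebraMap O R)) ⊗[O] kerMod φ,
      mulMap (RingHom.ker (algebraMap O R)) ((kerMod φ).subtype.lTensor _ w) ∈ I0 := by
    intro w
    induction w with
    | zero => simp
    | tmul μ j =>
      obtain ⟨s, hs, hsj⟩ := hI0S j.1 j.2
      obtain ⟨μ', -, hμ⟩ := hdiv s hs μ.1 μ.2
      have : mulMap (RingHom.ker (algebraMap O R)) ((kerMod φ).subtype.lTensor _ (μ ⊗ₜ j)) = μ' • (s • (j : MvPolynomial (Fin n) O)) := by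
        simp [mulMap, smul_smul, hμ, mul_comm]
      rw [this]
      exact Submodule.smul_of_tower_mem _ _ hsj
    | add a b ha hb => simp only [map_add]; exact add_mem ha hb
  have : i = y + (i - y) := by ring
  rw [this]
  exact add_mem (Ideal.mem_sup_right hy) (Ideal.mem_sup_left (hw ▸ hkey w))

include A hO hdiv hS hS0 hsurj hadm in
theorem flat_and_finitePresentation [Algebra.FiniteType O C] [Module.Flat A (A ⊗[O] C)]
    [Algebra.FinitePresentation A (A ⊗[O] C)] : Module.Flat O C ∧ Algebra.FinitePresentation O C := by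
  obtain ⟨n, φ, hφ⟩ := Algebra.FiniteType.iff_quotient_mvPolynomial''.1 (inferInstance : Algebra.FiniteType O C)
  haveI := flat_residue A S R hO hdiv hS hsurj hadm
  haveI : Algebra.FinitePresentation R (R ⊗[O] C) := Groth.Agent.S0406.result
  exact ⟨flat A S R hO hdiv hS hS0 hsurj hadm φ hφ,
    Algebra.FinitePresentation.of_surjective hφ (ker_fg A S R hO hdiv hsurj hadm φ hφ)⟩

end FG

end SemiValLib
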